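import Cfsg.Agent.H1.Core2.Classes
import Cfsg.Agent.H70.Balanced.Sylow

/-!
# Core killing: the data

An odd subgroup `W` normalised by a Sylow 2-subgroup `S` whose fixed points of the involutions of
`S` are respected by fusion.  The goal of the area is `W ≤ O(G)`.
-/

set_option autoImplicit false
set_option linter.unusedSectionVars false

namespace Cfsg.Agent.H10.Core2

open Subgroup

universe u

variable {G : Type u} [Group G]

/-- An odd subgroup whose fixed points of the involutions of `S` are equivariant. -/
structure Sig (S : Sylow 2 G) (W : Subgroup G) : Prop where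
  odd : Odd (Nat.card W)
  invariant : (S : Subgroup G) ≤ normalizer (W : Set G)
  conj : ∀ a g : G, a ∈ S → orderOf a = 2 → g * a * g⁻¹ ∈ S →
    (W ⊓ centralizer ({a} : Set G)).map (MulAut.conj g).toMonoidHom =
      W ⊓ centralizer ({g * a * g⁻¹} : Set G)

/-- The statement proved by induction on the order. -/
def Kills (G : Type u) [Group G] : Prop :=
  ∀ (S : Sylow 2 G) (W : Subgroup G), Sig S W → H70.Balanced.Linked (S : Subgroup G) →
    ¬ Cfsg.PRankLE 2 2 G → W ≤ Cfsg.oddCore G

/-- The inductive hypothesis. -/
def KillsBelow (G : Type u) [Group G] : Prop :=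
  ∀ (H : Type u) [Group H] [Finite H], Nat.card H < Nat.card G → Kills H

/-- The local statement: for commuting involutions `a`, `b` of `M`, an odd subgroup of `C_M(a)`
normalised by `C(a) ∩ C(b)` whose fixed points of `b` lie in `O(C(b))` lies in `O(C(a))`. -/
def LocalKill (M : Subgroup G) : Prop :=
  ∀ a b : G, a ∈ M → b ∈ M → orderOf a = 2 → orderOf b = 2 → a ≠ b → Commute a b →
    ∀ X : Subgroup G, Odd (Nat.card X) → X ≤ centralizer ({a} : Set G) ⊓ M →
      centralizer ({a} : Set G) ⊓ centralizer ({b} : Set G) ≤ normalizer (X : Set G) →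
      X ⊓ centralizer ({b} : Set G) ≤ Cfsg.centralizerPPrimeCore 2 b →
      X ≤ Cfsg.centralizerPPrimeCore 2 a

/-- All involutions of `G` are conjugate. -/
def OneClass (G : Type u) [Group G] : Prop :=
  ∀ a b : G, orderOf a = 2 → orderOf b = 2 → IsConj a b

end Cfsg.Agent.H10.Core2
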