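import Cfsg.Agent.H10.Core2.Basic
import Cfsg.Agent.H1.Core2.GoodCentral
import Cfsg.Agent.H70.Balanced.Rows
import Cfsg.Agent.Coprime.Generation

/-!
# Core killing: first consequences of the data

`N(W)` contains the normalisers of the 2-subgroups of rank two of `S`; odd subgroups normalised by
an elementary group of order eight of `N(W)` lie in `N(W)`; fusion inside `N(W)` is respected.
-/

set_option autoImplicit false
set_option linter.unusedSectionVars false
set_option linter.style.haveILetI false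

namespace Cfsg.Agent.H10.Core2

open Subgroup
open scoped Pointwise
open Cfsg.Agent.H70.Balanced (Four Linked)

universe u

variable {G : Type u} [Group G] [Finite G]

/-- A four-group acting on an odd group: the centralisers of its involutions generate. -/
theorem le_of_four {Y K U : Subgroup G} (hY : Odd (Nat.card Y)) (hU : Four U)
    (hn : U ≤ normalizer (Y : Set G))
    (hle : ∀ u ∈ U, orderOf u = 2 → Y ⊓ centralizer ({u} : Set G) ≤ K) : Y ≤ K := by
  haveI : IsMulCommutative U := hU.1.1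
  have hnc : ¬ IsCyclic U := by
    intro hc
    obtain ⟨g, hg⟩ := hc.exists_generator
    have h4 : orderOf g = 4 := by
      rw [orderOf_eq_card_of_forall_mem_zpowers hg, hU.2]
    have h2 : orderOf g ∣ 2 := orderOf_dvd_of_pow_eq_one (Subtype.ext (hU.1.2 _ g.2))
    rw [h4] at h2
    norm_num at h2
  refine Coprime.le_of_centralizer_noncyclic_le hnc hn ?_ fun u hu hu1 => ?_
  · rw [hU.2, show (4 : ℕ) = 2 ^ 2 by norm_num]
    exact hY.coprime_two_left.pow_left 2
  · exact hle u hu (orderOf_eq_prime (hU.1.2 u hu) hu1)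

theorem conj_orderOf {g a : G} (ha : orderOf a = 2) : orderOf (g * a * g⁻¹) = 2 := by
  rw [H39.orderOf_conj, ha]

variable {S : Sylow 2 G} {W : Subgroup G}

/-- Fusion into `S` carries fixed points in `W` into `W`. -/
theorem Sig.conj_mem (h : Sig S W) {a g w : G} (ha : a ∈ S) (ha2 : orderOf a = 2)
    (hga : g * a * g⁻¹ ∈ S) (hw : w ∈ W) (hc : Commute w a) : g * w * g⁻¹ ∈ W := by
  have h1 : g * w * g⁻¹ ∈ W ⊓ centralizer ({g * a * g⁻¹} : Set G) := by
    rw [← h.conj a g ha ha2 hga]
    exact ⟨w, ⟨hw, mem_centralizer_singleton_iff.mpr hc.eq⟩, rfl⟩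
  exact h1.1

/-- The normaliser of `W` has the normalisers of the 2-subgroups of rank at least two. -/
theorem Sig.twoCore (h : Sig S W) (hr : ¬ Cfsg.PRankLE 2 2 G) :
    H1.Core2.TwoCore (normalizer (W : Set G)) S := by
  haveI : Fact (Nat.Prime 2) := ⟨Nat.prime_two⟩
  refine ⟨h.invariant, fun P hP hrk n hn => ?_, ?_⟩
  · obtain ⟨E, hEP, hE, hE4⟩ :
        ∃ E ≤ P, Cfsg.IsElementaryAbelian 2 E ∧ 4 ≤ Nat.card E := by
      obtain ⟨A, hA⟩ := not_forall.mp hrk
      simp only [Classical.not_imp, not_le] at hA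
      obtain ⟨hc, he, hlt⟩ := hA
      refine ⟨A.map P.subtype, map_subtype_le A, ⟨⟨⟨?_⟩⟩, ?_⟩, ?_⟩
      · rintro ⟨_, x, hx, rfl⟩ ⟨_, y, hy, rfl⟩
        exact Subtype.ext (congrArg (fun z : ↥A => ((z : ↥P) : G)) (hc.1.comm ⟨x, hx⟩ ⟨y, hy⟩))
      · rintro _ ⟨x, hx, rfl⟩
        rw [← map_pow, he x hx, map_one]
      · rw [card_map_of_injective P.subtype_injective]
        obtain ⟨k, hk⟩ := IsPGroup.iff_card.mp
          ((fun x => ⟨1, Subtype.ext (by simpa using he x x.2)⟩) : IsPGroup 2 A)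
        rw [hk] at hlt ⊢
        exact Nat.pow_le_pow_right (n := 2) (i := 2) two_pos
          ((Nat.pow_lt_pow_iff_right (by norm_num : 1 < 2)).1 hlt)
    obtain ⟨U, hUE, hU⟩ := H70.Balanced.exists_four_le hE hE4
    have hUP : U ≤ P := hUE.trans hEP
    have key : W ≤ W.comap (MulAut.conj n).toMonoidHom := by
      refine le_of_four h.odd hU (hUP.trans (hP.trans h.invariant)) fun u hu hu2 w hw => ?_
      exact h.conj_mem (hP (hUP hu)) hu2 (hP ((mem_normalizer_iff.mp hn u).mp (hUP hu))) hw.1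
        (mem_centralizer_singleton_iff.mp hw.2)
    rw [H39.mem_normalizer_iff_map_conj]
    refine eq_of_le_of_card_ge (map_le_iff_le_comap.mpr key) ?_
    rw [card_map_of_injective (MulAut.conj n).injective]
  · obtain ⟨A, -, hA, hA8⟩ := H70.Balanced.exists_eight hr S
    obtain ⟨U, -, hU⟩ := H70.Balanced.exists_four_le hA (by omega)
    haveI : Nontrivial U := Finite.one_lt_card_iff_nontrivial.mp (by rw [hU.2]; norm_num)
    obtain ⟨a, ha⟩ := exists_ne (1 : U)
    obtain ⟨b, hb, hbne⟩ : ∃ b ∈ U, b ∉ zpowers (a : G) := SetLike.not_le_iff_exists.1 fun hle => by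
      have h1 := card_le_of_le hle
      rw [hU.2, Nat.card_zpowers,
        orderOf_eq_prime (hU.1.2 _ a.2) (fun e => ha (Subtype.ext e))] at h1
      omega
    exact ⟨a, b, orderOf_eq_prime (hU.1.2 _ a.2) (fun e => ha (Subtype.ext e)),
      orderOf_eq_prime (hU.1.2 _ hb) (fun e => hbne (e ▸ one_mem _)),
      fun e => hbne (e ▸ mem_zpowers _),
      congrArg Subtype.val (hU.1.1.1.comm a ⟨b, hb⟩)⟩

/-- An involution of `N(W)` is moved into `S` by an element of `N(W)`. -/
theorem Sig.exists_conj (h : Sig S W) (hr : ¬ Cfsg.PRankLE 2 2 G) {a : G}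
    (ha : orderOf a = 2) (haM : a ∈ normalizer (W : Set G)) :
    ∃ m ∈ normalizer (W : Set G), m * a * m⁻¹ ∈ (S : Subgroup G) := by
  obtain ⟨m, hm, hmS⟩ := (h.twoCore hr).exists_conj_le (zpowers_le.mpr haM)
    (IsPGroup.of_card (n := 1) (by rw [Nat.card_zpowers, ha, pow_one]))
  exact ⟨m, hm, hmS a (mem_zpowers a)⟩

/-- Fixed points in `W` follow fusion between involutions of `N(W)`. -/
theorem Sig.conj_mem_normalizer (h : Sig S W) (hr : ¬ Cfsg.PRankLE 2 2 G) {a g w : G}
    (ha : orderOf a = 2) (haM : a ∈ normalizer (W : Set G))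
    (hga : g * a * g⁻¹ ∈ normalizer (W : Set G)) (hw : w ∈ W) (hc : Commute w a) :
    g * w * g⁻¹ ∈ W := by
  obtain ⟨m, hm, hmS⟩ := h.exists_conj hr ha haM
  obtain ⟨k, hk, hkS⟩ := h.exists_conj hr (conj_orderOf ha) hga
  have e1 : k * (g * a * g⁻¹) * k⁻¹ = (k * g * m⁻¹) * (m * a * m⁻¹) * (k * g * m⁻¹)⁻¹ := by group
  have h1 : (k * g * m⁻¹) * (m * w * m⁻¹) * (k * g * m⁻¹)⁻¹ ∈ W := by
    refine h.conj_mem hmS (conj_orderOf ha) (e1 ▸ hkS) ((mem_normalizer_iff.mp hm w).mp hw) ?_
    simpa using hc.map (MulAut.conj m).toMonoidHom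
  have h2 := (mem_normalizer_iff.mp (inv_mem hk) _).mp h1
  simpa [mul_assoc] using h2

/-- Every involution of `N(W)` lies in an elementary group of order eight of `N(W)`. -/
theorem Sig.exists_eight (h : Sig S W) (hS : Linked (S : Subgroup G))
    (hr : ¬ Cfsg.PRankLE 2 2 G) {a : G} (ha : orderOf a = 2) (haM : a ∈ normalizer (W : Set G)) :
    ∃ D ≤ normalizer (W : Set G), a ∈ D ∧ Cfsg.IsElementaryAbelian 2 D ∧ 8 ≤ Nat.card D := by
  haveI : Fact (Nat.Prime 2) := ⟨Nat.prime_two⟩
  obtain ⟨m, hm, hmS⟩ := h.exists_conj hr ha haM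
  obtain ⟨A, hAS, hA, hA8⟩ := H70.Balanced.exists_eight hr S
  obtain ⟨D, hDS, hmD, hD, hD8⟩ :=
    H70.Balanced.exists_eight_mem S.isPGroup' hS hA hA8 hAS (conj_orderOf ha) hmS
  refine ⟨D.map (MulAut.conj m⁻¹).toMonoidHom, ?_, ⟨_, hmD, by simp [mul_assoc]⟩,
    H36.NilPPrime.elem_map hD _, by rwa [H39.card_map_conj]⟩
  rintro _ ⟨d, hd, rfl⟩
  exact mul_mem (mul_mem (inv_mem hm) (h.invariant (hDS hd))) (inv_mem (inv_mem hm))

/-- Two commuting distinct involutions generate a four-group. -/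
theorem four_pair {x y : G} (hx : orderOf x = 2) (hy : orderOf y = 2) (hne : x ≠ y)
    (hxy : Commute x y) : Four (zpowers x ⊔ zpowers y) := by
  haveI : Fact (Nat.Prime 2) := ⟨Nat.prime_two⟩
  have hsq : ∀ {a : G}, orderOf a = 2 → a ^ 2 = 1 := fun {a} ha => by rw [← ha, pow_orderOf_eq_one]
  have hs := Fusion.Signalizer.elementary_sup (H70.Balanced.elementary_zpowers (hsq hx))
    (H70.Balanced.elementary_zpowers (hsq hy)) fun c hc d hd => by
      obtain ⟨i, rfl⟩ := mem_zpowers_iff.1 hc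
      obtain ⟨j, rfl⟩ := mem_zpowers_iff.1 hd
      exact (hxy.zpow_zpow i j).eq
  refine ⟨hs, le_antisymm ?_ ?_⟩
  · have hset : ((zpowers x ⊔ zpowers y : Subgroup G) : Set G) =
        (zpowers x : Set G) * (zpowers y : Set G) :=
      coe_mul_of_left_le_normalizer_right _ _ ((zpowers_le.2 (centralizer_le_normalizer _
        (mem_centralizer_iff.2 fun d hd => by
          obtain ⟨j, rfl⟩ := mem_zpowers_iff.1 hd
          exact (hxy.zpow_right j).eq.symm))))
    calc Nat.card ↥(zpowers x ⊔ zpowers y)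
        = ((zpowers x : Set G) * (zpowers y : Set G)).ncard := by
          rw [← hset, ← Nat.card_coe_set_eq]; rfl
      _ ≤ (zpowers x : Set G).ncard * (zpowers y : Set G).ncard := Set.natCard_mul_le
      _ = 4 := by
          rw [← Nat.card_coe_set_eq, ← Nat.card_coe_set_eq]
          show Nat.card (zpowers x) * Nat.card (zpowers y) = 4
          rw [Nat.card_zpowers, Nat.card_zpowers, hx, hy]
  · have h := H70.Balanced.card_two_le_of_lt (H36.NilPPrime.elem_isPGroup hs)
      (lt_of_le_of_ne le_sup_left fun e => by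
        have hy' : y ∈ zpowers x := e.symm ▸ mem_sup_right (mem_zpowers y)
        obtain ⟨k, hk⟩ := mem_zpowers_iff.1 hy'
        rcases Int.even_or_odd k with ⟨j, hj⟩ | ⟨j, hj⟩
        · rw [hj, ← two_mul, zpow_mul, zpow_two, H1.Core2.mul_self_of_mem_pair hx hy hxy
            (subset_closure (Set.mem_insert x _)), one_zpow] at hk
          rw [← hk, orderOf_one] at hy
          exact absurd hy (by norm_num)
        · rw [hj, zpow_add, zpow_one, zpow_mul, zpow_two, H1.Core2.mul_self_of_mem_pair hx hy hxy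
            (subset_closure (Set.mem_insert x _)), one_zpow, one_mul] at hk
          exact hne hk)
    rw [Nat.card_zpowers, hx] at h
    exact h

/-- An odd subgroup normalised by an elementary group of order eight of `N(W)` lies in `N(W)`. -/
theorem Sig.odd_le (h : Sig S W) (hr : ¬ Cfsg.PRankLE 2 2 G) {D Y : Subgroup G}
    (hDM : D ≤ normalizer (W : Set G)) (hD : Cfsg.IsElementaryAbelian 2 D) (hD8 : 8 ≤ Nat.card D)
    (hY : Odd (Nat.card Y)) (hn : D ≤ normalizer (Y : Set G)) : Y ≤ normalizer (W : Set G) := by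
  haveI : Fact (Nat.Prime 2) := ⟨Nat.prime_two⟩
  set M := normalizer (W : Set G)
  have hDc : ∀ {x y : G}, x ∈ D → y ∈ D → Commute x y := fun hx hy =>
    H36.NilPPrime.elem_comm hD hx hy
  obtain ⟨U₁, hU₁D, hU₁⟩ := H70.Balanced.exists_four_le hD (by omega)
  refine le_of_four hY hU₁ (hU₁D.trans hn) fun e he he2 => ?_
  -- a four-group of `D` avoiding `e`
  obtain ⟨U, hUD, hU, heU⟩ : ∃ U ≤ D, Four U ∧ e ∉ U := by
    have heD : e ∈ D := hU₁D he
    obtain ⟨b, hb, hbe⟩ : ∃ b ∈ D, b ∉ zpowers e := SetLike.not_le_iff_exists.1 fun hle => by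
      have h1 := card_le_of_le hle
      rw [Nat.card_zpowers, he2] at h1
      omega
    have hb2 : orderOf b = 2 := orderOf_eq_prime (hD.2 b hb) fun e' => hbe (e' ▸ one_mem _)
    have hbne : e ≠ b := fun e' => hbe (e' ▸ mem_zpowers e)
    have hF := four_pair he2 hb2 hbne (hDc heD hb)
    obtain ⟨c, hc, hce⟩ : ∃ c ∈ D, c ∉ zpowers e ⊔ zpowers b :=
      SetLike.not_le_iff_exists.1 fun hle => by
        have h1 := card_le_of_le hle
        rw [hF.2] at h1
        omega
    have hc2 : orderOf c = 2 := orderOf_eq_prime (hD.2 c hc) fun e' => hce (e' ▸ one_mem _)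
    have hcb : b ≠ c := fun e' => hce (e' ▸ mem_sup_right (mem_zpowers b))
    refine ⟨zpowers b ⊔ zpowers c, sup_le (zpowers_le.2 hb) (zpowers_le.2 hc),
      four_pair hb2 hc2 hcb (hDc hb hc), fun heU => ?_⟩
    have hle : zpowers e ⊔ zpowers b ≤ zpowers b ⊔ zpowers c :=
      sup_le (zpowers_le.2 heU) le_sup_left
    have heq := eq_of_le_of_card_ge hle (by rw [hF.2, (four_pair hb2 hc2 hcb (hDc hb hc)).2])
    exact hce (heq ▸ mem_sup_right (mem_zpowers c))
  refine le_of_four (Odd.of_dvd_nat hY (card_dvd_of_le inf_le_left)) hU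
    (fun u hu => ?_) fun f hf hf2 x hx => ?_
  · have h1 : u ∈ normalizer (centralizer ({e} : Set G) : Set G) :=
      Subgroup.le_normalizer (mem_centralizer_singleton_iff.mpr (hDc (hUD hu) (hU₁D he)).eq)
    exact inf_normalizer_le_normalizer_inf ⟨hn (hUD hu), h1⟩
  · have hne : e ≠ f := fun e' => heU (e' ▸ hf)
    refine (h.twoCore hr).normalizer_le (T := closure ({e, f} : Set G)) ?_
      (H1.Core2.isPGroup_closure_pair he2 hf2 (hDc (hU₁D he) (hUD hf)))
      (subset_closure (Set.mem_insert e _)) (subset_closure (Set.mem_insert_of_mem e rfl))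
      he2 hf2 hne (hDc (hU₁D he) (hUD hf)) ?_
    · exact (closure_le M).mpr (Set.insert_subset (hDM (hU₁D he))
        (Set.singleton_subset_iff.mpr (hDM (hUD hf))))
    · refine centralizer_le_normalizer _ ?_
      rw [centralizer_closure]
      rw [mem_centralizer_iff]
      rintro y (rfl | rfl)
      · exact (mem_centralizer_singleton_iff.mp hx.1.2).symm
      · exact (mem_centralizer_singleton_iff.mp hx.2).symm

/-- The core of the centraliser of an involution of `N(W)` lies in `N(W)`. -/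
theorem Sig.core_le (h : Sig S W) (hS : Linked (S : Subgroup G)) (hr : ¬ Cfsg.PRankLE 2 2 G)
    {a : G} (ha : orderOf a = 2) (haM : a ∈ normalizer (W : Set G)) :
    Cfsg.centralizerPPrimeCore 2 a ≤ normalizer (W : Set G) := by
  obtain ⟨D, hDM, haD, hD, hD8⟩ := h.exists_eight hS hr ha haM
  refine h.odd_le hr hDM hD hD8 ?_ fun d hd => ?_
  · rw [← Nat.not_even_iff_odd, even_iff_two_dvd]
    exact H47.not_dvd_centralizerPPrimeCore a
  · rw [H39.mem_normalizer_iff_map_conj, ← Fusion.Signalizer.centralizerPPrimeCore_conj a d]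
    rw [show d * a * d⁻¹ = a by rw [(H36.NilPPrime.elem_comm hD hd haD : d * a = a * d), mul_inv_cancel_right]]

end Cfsg.Agent.H10.Core2
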